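import Groth.Agent.H23.Rigid
import Groth.Agent.GrpSchLib.Coincidence
import Mathlib.AlgebraicGeometry.Morphisms.Flat
import Groth.Prelude.Def_AlgGrp

/-!
Blanchard's lemma, the general part: the property `O_Y = f_* O_X` is stable under flat base change,
and a proper equivariant fibration transports actions.
-/

universe u

open CategoryTheory Limits AlgebraicGeometry TopologicalSpace MonoidalCategory CartesianMonoidalCategory

namespace Groth.Agent.Blanchard

/-- `O_S = f_* O_X` is stable under flat base change, for `f` quasi-compact and `X` quasi-separated. -/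
lemma bijective_app_of_flat {P X T S : Scheme.{u}} {g : P ⟶ X} {ξ : P ⟶ T} {f : X ⟶ S} {q : T ⟶ S}
    (H : IsPullback g ξ f q) [Flat q] [QuasiCompact f] [QuasiSeparatedSpace X]
    (hf : ∀ U : S.Opens, Function.Bijective (f.app U)) (U : T.Opens) :
    Function.Bijective (ξ.app U) := by
  have aff : ∀ (W : T.Opens) (V : S.Opens), IsAffineOpen W → IsAffineOpen V → W ≤ q ⁻¹ᵁ V →
      Function.Bijective (ξ.app W) := by
    intro W V hW hV hWV
    have hiso := isIso_pushoutSection_of_isQuasiSeparated_of_flat_right H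
      (US := V) (UT := W) (UX := f ⁻¹ᵁ V) (UY := ξ ⁻¹ᵁ W) hWV le_rfl
      (by
        refine le_antisymm (le_inf ?_ le_rfl) inf_le_right
        intro x hx
        show f (g x) ∈ V
        rw [← Scheme.Hom.comp_apply, H.w, Scheme.Hom.comp_apply]
        exact hWV hx) hV hW (f.isCompact_preimage hV.isCompact)
      (IsQuasiSeparated.of_quasiSeparatedSpace _)
    rw [isIso_pushoutSection_iff] at hiso
    have : IsIso (f.appLE V (f ⁻¹ᵁ V) le_rfl) := by
      rw [← Scheme.Hom.app_eq_appLE]
      exact (ConcreteCategory.isIso_iff_bijective _).mpr (hf V)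
    have := hiso.isIso_inr_of_isIso
    rw [Scheme.Hom.app_eq_appLE]
    exact ConcreteCategory.bijective_of_isIso _
  let F : TopCat.Sheaf CommRingCat.{u} T := T.sheaf
  let G : TopCat.Sheaf CommRingCat.{u} T := (TopCat.Sheaf.pushforward _ ξ.base).obj P.sheaf
  let φ : F ⟶ G := ⟨ξ.c⟩
  have : ∀ x : T, IsIso ((TopCat.Presheaf.stalkFunctor CommRingCat.{u} x).map φ.hom) := by
    intro x
    obtain ⟨_, ⟨V, hV, rfl⟩, hxV, -⟩ :=
      S.isBasis_affineOpens.exists_subset_of_mem_open (Set.mem_univ (q x)) isOpen_univ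
    rw [ConcreteCategory.isIso_iff_bijective]
    constructor
    · intro a b hab
      obtain ⟨W₀, hxW₀, a', rfl⟩ := TopCat.Presheaf.exists_germ_eq F.obj a
      obtain ⟨W₁, hxW₁, b', rfl⟩ := TopCat.Presheaf.exists_germ_eq F.obj b
      rw [TopCat.Presheaf.stalkFunctor_map_germ_apply, TopCat.Presheaf.stalkFunctor_map_germ_apply] at hab
      obtain ⟨W₂, hx₂, i₀, i₁, he⟩ := TopCat.Presheaf.germ_eq G.obj x hxW₀ hxW₁ _ _ hab
      obtain ⟨_, ⟨W, hW, rfl⟩, hxW, hWle'⟩ := T.isBasis_affineOpens.exists_subset_of_mem_open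
        (show x ∈ W₂ ⊓ q ⁻¹ᵁ V from ⟨hx₂, hxV⟩) (W₂ ⊓ q ⁻¹ᵁ V).isOpen
      have hWle : W ≤ W₂ := fun y hy => (hWle' hy).1
      refine TopCat.Presheaf.germ_ext _ W hxW (homOfLE hWle ≫ i₀) (homOfLE hWle ≫ i₁)
        ((aff W V hW hV fun y hy => (hWle' hy).2).1 ?_)
      have := congrArg (G.obj.map (homOfLE hWle).op) he
      have e0 := G.obj.map_comp i₀.op (homOfLE hWle).op
      have e1 := G.obj.map_comp i₁.op (homOfLE hWle).op
      have this := ((ConcreteCategory.congr_hom e0 _).trans this).trans (ConcreteCategory.congr_hom e1 _).symm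
      exact (ConcreteCategory.congr_hom (ξ.c.naturality (homOfLE hWle ≫ i₀).op) a').trans
        (this.trans (ConcreteCategory.congr_hom (ξ.c.naturality (homOfLE hWle ≫ i₁).op) b').symm)
    · intro c
      obtain ⟨W₀, hxW₀, c', rfl⟩ := TopCat.Presheaf.exists_germ_eq G.obj c
      obtain ⟨_, ⟨W, hW, rfl⟩, hxW, hWle'⟩ := T.isBasis_affineOpens.exists_subset_of_mem_open
        (show x ∈ W₀ ⊓ q ⁻¹ᵁ V from ⟨hxW₀, hxV⟩) (W₀ ⊓ q ⁻¹ᵁ V).isOpen
      have hWle : W ≤ W₀ := fun y hy => (hWle' hy).1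
      obtain ⟨a, ha⟩ := (aff W V hW hV fun y hy => (hWle' hy).2).2 (G.obj.map (homOfLE hWle).op c')
      refine ⟨TopCat.Presheaf.germ F.obj W x hxW a, ?_⟩
      refine (TopCat.Presheaf.stalkFunctor_map_germ_apply W x hxW φ.hom a).trans ?_
      exact (congrArg (TopCat.Presheaf.germ G.obj W x hxW) ha).trans (TopCat.Presheaf.germ_res_apply G.obj _ _ _ _)
  have : IsIso φ := TopCat.Presheaf.isIso_of_stalkFunctor_map_iso φ
  have : IsIso φ.hom := (TopCat.Sheaf.forget _ _).map_isIso φ
  exact ConcreteCategory.bijective_of_isIso (φ.hom.app (Opposite.op U))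

section Field

variable {k : Type u} [Field k] {X Y : Over (Spec (CommRingCat.of k))} (f : X ⟶ Y)

lemma bijective_app_whiskerLeft [IsSeparated X.hom] [IsProper f.left]
    (hf : ∀ U : Y.left.Opens, IsIso (f.left.app U)) (G : Over (Spec (CommRingCat.of k))) :
    (∀ U : (G ⊗ Y).left.Opens, Function.Bijective ((G ◁ f).left.app U)) ∧
      IsClosedMap (G ◁ f).left := by
  have H := (GrpSchLib.isPullback_whiskerLeft (W := G) f).flip
  haveI : Flat G.hom := inferInstance
  haveI : Flat (snd G Y).left := inferInstanceAs (Flat (pullback.snd G.hom Y.hom))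
  haveI : QuasiSeparatedSpace X.left :=
    (quasiSeparated_iff_quasiSeparatedSpace X.hom).mp inferInstance
  haveI : IsProper (G ◁ f).left := MorphismProperty.of_isPullback H inferInstance
  exact ⟨bijective_app_of_flat H fun U => (haveI := hf U; ConcreteCategory.bijective_of_isIso _),
    (G ◁ f).left.isClosedMap⟩

lemma epi_whiskerLeft [IsSeparated X.hom] [IsProper f.left]
    (hf : ∀ U : Y.left.Opens, IsIso (f.left.app U)) (G Z : Over (Spec (CommRingCat.of k)))
    {r r' : G ⊗ Y ⟶ Z} (h : (G ◁ f) ≫ r = (G ◁ f) ≫ r') : r = r' := by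
  obtain ⟨h0, hcl⟩ := bijective_app_whiskerLeft f hf G
  exact Over.OverMorphism.ext (H23.Rigid.cancel_left _ h0
    (H23.Rigid.surjective_of_bijective_app _ h0 hcl) _ _ (congrArg CommaMorphism.left h))

lemma cancel [IsProper f.left] (hf : ∀ U : Y.left.Opens, IsIso (f.left.app U))
    {Z : Over (Spec (CommRingCat.of k))} {r r' : Y ⟶ Z} (h : f ≫ r = f ≫ r') : r = r' := by
  have h0 := fun U => (haveI := hf U; ConcreteCategory.bijective_of_isIso (f.left.app U))
  exact Over.OverMorphism.ext (H23.Rigid.cancel_left _ h0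
    (H23.Rigid.surjective_of_bijective_app _ h0 f.left.isClosedMap) _ _ (congrArg CommaMorphism.left h))

open MonObj in
/-- An action descends along a fibration as soon as its orbit map is constant on the fibres. -/
theorem exists_action [IsSeparated X.hom] [IsProper f.left]
    (hf : ∀ U : Y.left.Opens, IsIso (f.left.app U)) {G : Over (Spec (CommRingCat.of k))} [GrpObj G]
    (a : AlgGrp.Action G X)
    (h : ∀ p q : ↥(G ⊗ X).left, (G ◁ f).left.base p = (G ◁ f).left.base q →
      (a.act ≫ f).left.base p = (a.act ≫ f).left.base q) :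
    ∃ b : AlgGrp.Action G Y, (G ◁ f) ≫ b.act = a.act ≫ f := by
  obtain ⟨h0, hcl⟩ := bijective_app_whiskerLeft f hf G
  have hs := H23.Rigid.surjective_of_bijective_app _ h0 hcl
  obtain ⟨r, hr⟩ := H23.Rigid.exists_factor (G ◁ f).left h0 hcl (a.act ≫ f).left (fun s => by
    obtain ⟨x, hx⟩ := hs s
    exact ⟨_, fun x' hx' => h x' x (hx'.trans hx.symm)⟩)
  have hr' : r ≫ Y.hom = (G ⊗ Y).hom := H23.Rigid.cancel_left _ h0 hs _ _ (by
    rw [← Category.assoc, hr]
    exact (Over.w (a.act ≫ f)).trans (Over.w (G ◁ f)).symm)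
  let b : G ⊗ Y ⟶ Y := Over.homMk r hr'
  have hb : (G ◁ f) ≫ b = a.act ≫ f := Over.OverMorphism.ext hr
  refine ⟨⟨b, ?_, ?_⟩, hb⟩
  · refine epi_whiskerLeft f hf _ _ ?_
    rw [whisker_exchange_assoc, hb, ← Category.assoc, a.one_act, leftUnitor_naturality]
  · refine epi_whiskerLeft f hf _ _ ?_
    rw [whisker_exchange_assoc, hb, ← Category.assoc, a.mul_act, Category.assoc, Category.assoc,
      associator_naturality_right_assoc, ← MonoidalCategory.whiskerLeft_comp_assoc, hb,
      MonoidalCategory.whiskerLeft_comp_assoc, hb]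

end Field

end Groth.Agent.Blanchard
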